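import Groth.Prelude.Def_EGA4b
import Groth.Agent.SerreReg.Basic
import Groth.Agent.FlatRes.FibreFree
import Groth.Agent.S5929
import Groth.Agent.S5930

/-!
Projective dimension of a module flat over the base is read on the closed fibre.
-/

set_option autoImplicit false
set_option linter.style.haveILetI false

universe u

open TensorProduct CategoryTheory IsLocalRing
open Groth.Agent.SerreReg (PdLE pdLE_zero_iff pdLE_succ_iff pdLE_of_equiv)

noncomputable section

namespace Groth.Agent.FibrePd

variable (A : Type u) {B : Type u} [CommRing A] [CommRing B] [IsNoetherianRing B] [IsLocalRing A]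
  [IsLocalRing B] [Algebra A B] [IsLocalHom (algebraMap A B)] [Module.Flat A B]

/-- Reduction to the fibre keeps injectivity when the quotient is flat over the base. -/
theorem baseChange_fib_injective {K F N : Type u} [AddCommGroup K] [Module B K] [AddCommGroup F]
    [Module B F] [AddCommGroup N] [Module B N] [Module A N] [IsScalarTower A B N] [Module.Flat A N]
    [Module A K] [IsScalarTower A B K] [Module A F] [IsScalarTower A B F]
    (i : K →ₗ[B] F) (g : F →ₗ[B] N) (hi : Function.Injective i) (hg : Function.Surjective g)
    (hex : Function.Exact i g) :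
    Function.Injective (i.baseChange (EGA4.FibRing A B)) := by
  let e : EGA4.FibRing A B ≃ₗ[B] B ⊗[A] (A ⧸ maximalIdeal A) :=
    (Algebra.TensorProduct.quotIdealMapEquivTensorQuot B (maximalIdeal A)).toLinearEquiv
  have h := S5930.baseChange_injective (A := A) (A ⧸ maximalIdeal A) i g hi hg hex
  have hc : ∀ z, TensorProduct.congr e (LinearEquiv.refl B F) (i.baseChange (EGA4.FibRing A B) z) =
      i.baseChange (B ⊗[A] (A ⧸ maximalIdeal A))
        (TensorProduct.congr e (LinearEquiv.refl B K) z) := by
    intro z
    induction z with
    | zero => simp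
    | tmul c x => simp
    | add a b ha hb => simp only [map_add, ha, hb]
  intro a b hab
  exact (TensorProduct.congr e (LinearEquiv.refl B K)).injective (h (by rw [← hc, ← hc, hab]))

theorem pdLE_fibre_iff : ∀ (n : ℕ) (N : Type u) [AddCommGroup N] [Module B N] [Module A N]
    [IsScalarTower A B N] [Module.Finite B N] [Module.Flat A N],
    PdLE B N n ↔ PdLE (EGA4.FibRing A B) (EGA4.FibRing A B ⊗[B] N) n := by
  intro n
  induction n with
  | zero =>
    intro N _ _ _ _ _ _
    haveI : Module.FinitePresentation B N := Module.finitePresentation_of_finite B N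
    rw [pdLE_zero_iff, pdLE_zero_iff]
    refine ⟨fun h => inferInstance, fun h => ?_⟩
    haveI : Module.Free (EGA4.FibRing A B) (EGA4.FibRing A B ⊗[B] N) :=
      Module.free_of_flat_of_isLocalRing
    haveI : Module.Free B N := FlatRes.free_of_fibre_free (A := A) (maximalIdeal A)
      (IsLocalRing.map_maximalIdeal_le (algebraMap A B)) this
    infer_instance
  | succ n ih =>
    intro N _ _ _ _ _ _
    obtain ⟨k, g, hg⟩ := Module.Finite.exists_fin' B N
    haveI : Module.Flat A (Fin k → B) := Module.Flat.trans A B _
    haveI : Module.Flat A (LinearMap.ker g) :=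
      S5929.flat_ker' ((LinearMap.ker g).subtype.restrictScalars A) (g.restrictScalars A)
        (Submodule.injective_subtype _) hg (LinearMap.exact_subtype_ker_map g)
    have hg' : Function.Surjective (g.baseChange (EGA4.FibRing A B)) :=
      LinearMap.lTensor_surjective (EGA4.FibRing A B) hg
    rw [pdLE_succ_iff g hg, pdLE_succ_iff _ hg', ih (LinearMap.ker g)]
    have hi := baseChange_fib_injective A (LinearMap.ker g).subtype g (Submodule.injective_subtype _)
      hg (LinearMap.exact_subtype_ker_map g)
    have hex : LinearMap.range ((LinearMap.ker g).subtype.baseChange (EGA4.FibRing A B)) =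
        LinearMap.ker (g.baseChange (EGA4.FibRing A B)) := by
      ext x
      exact ((lTensor_exact (EGA4.FibRing A B) (LinearMap.exact_subtype_ker_map g) hg) x).symm
    let e := (LinearEquiv.ofInjective _ hi).trans (LinearEquiv.ofEq _ _ hex)
    exact ⟨pdLE_of_equiv e, pdLE_of_equiv e.symm⟩

theorem pd_fibMod_eq (N : Type u) [AddCommGroup N] [Module B N] [Module A N]
    [IsScalarTower A B N] [Module.Finite B N] [Module.Flat A N] :
    projectiveDimension (ModuleCat.of B N) =
      projectiveDimension (ModuleCat.of (EGA4.FibRing A B) (EGA4.FibMod A B N)) := by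
  let e : (EGA4.FibRing A B ⊗[B] N) ≃ₗ[EGA4.FibRing A B] EGA4.FibMod A B N :=
    LinearEquiv.extendScalarsOfSurjective Ideal.Quotient.mk_surjective
      (TensorProduct.quotTensorEquivQuotSMul N (EGA4.mB A B))
  rw [← projectiveDimension_eq_of_iso e.toModuleIso]
  refine S5930.eq_of_le_nat_iff ?_ fun n => ?_
  · simp only [projectiveDimension_eq_bot_iff, ModuleCat.isZero_iff_subsingleton]
    constructor
    · intro (h : Subsingleton N)
      show Subsingleton (EGA4.FibRing A B ⊗[B] N)
      refine subsingleton_of_forall_eq 0 fun z => ?_
      induction z with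
      | zero => rfl
      | tmul a x => rw [Subsingleton.elim x 0, tmul_zero]
      | add a b ha hb => rw [ha, hb, add_zero]
    · intro (h : Subsingleton (EGA4.FibRing A B ⊗[B] N))
      show Subsingleton N
      haveI : Subsingleton (EGA4.FibMod A B N) := e.symm.toEquiv.subsingleton
      have htop : EGA4.mB A B • (⊤ : Submodule B N) = ⊤ :=
        Submodule.Quotient.subsingleton_iff.1 inferInstance
      refine (Submodule.subsingleton_iff B).1 (subsingleton_iff_bot_eq_top.1 ?_)
      exact (Submodule.eq_bot_of_le_smul_of_le_jacobson_bot (EGA4.mB A B) ⊤ Module.Finite.fg_top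
        htop.ge ((IsLocalRing.map_maximalIdeal_le (algebraMap A B)).trans
          (IsLocalRing.maximalIdeal_le_jacobson _))).symm
  · simp only [projectiveDimension_le_iff]
    exact pdLE_fibre_iff A n N

end Groth.Agent.FibrePd
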